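import Mathlib
import Cfsg.Prelude.Def_LieTypeChar
import Cfsg.Agent.Omega.Lie.Out.Class
import Cfsg.Agent.Omega.Lie.Out.Orth
import Cfsg.Agent.Omega.Lie.Out.Suz
import Cfsg.Agent.Mrg.Omega.Lie.OutSys
import Cfsg.Agent.Omega.Lie.Out.Exo
import Cfsg.Agent.Mrg.Omega.Lie.OutTw


/-!
# `OutNil` for the groups of Lie type in characteristic two and for the groups left over by `(ZS)`

`OutT.out` is the field `out` of `KRows`.
-/

set_option autoImplicit false

namespace Cfsg.Agent.Omega.Lie.OutT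

open Cfsg

theorem charTwo_of_card {F : Type*} [Field F] [Fintype F] {a : ℕ} (h : Fintype.card F = 2 ^ a) :
    CharP F 2 := by
  obtain ⟨n, hp, hn⟩ := FiniteField.card F (ringChar F)
  have h1 : ringChar F ∣ 2 ^ a := by
    rw [← h, hn]
    exact dvd_pow_self _ n.2.ne'
  have h2 : ringChar F = 2 := (Nat.prime_dvd_prime_iff_eq hp Nat.prime_two).1 (hp.dvd_of_dvd_pow h1)
  have h3 : CharP F (ringChar F) := inferInstance
  rwa [h2] at h3

/-- **`²F₄(q)`, `q ≥ 8`.** -/
theorem outNil_iso2F4 {L : Type*} [Group L] (h : Lie.Iso2F4 L) : OutNil L := by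
  obtain ⟨K, _, _, m, hm, hK, ⟨e⟩⟩ := h
  have := charTwo_of_card hK
  exact (OutTw.outNil_twF4 hm hK).of_equiv e.symm

/-- **`²E₆(q)`, `³D₄(q)`.** -/
theorem outNil_twisted {L : Type*} [Group L] (h : IsTwistedE6D4Char 2 L) : OutNil L := by
  obtain ⟨K, _, _, _, q, hq, ⟨hK, ⟨e⟩⟩ | ⟨hK, ⟨e⟩⟩⟩ := h
  · exact (OutTw.outNil_twE6 hq hK).of_equiv e.symm
  · exact (OutTw.outNil_twD4 hq hK).of_equiv e.symm

/-- **All groups of Lie type in characteristic two.** -/
theorem outNil {L : Type*} [Group L] (h : IsLieTypeChar 2 L) : OutNil L := by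
  rcases h with h | h | h | h | h | h | h | h | ⟨-, h⟩ | ⟨-, h⟩ | ⟨h2, -⟩
  · exact outNil_psl h
  · exact outNil_psp h
  · exact outNil_psu h
  · exact outNil_pOmegaOdd h
  · exact outNil_pOmegaPlus h
  · exact outNil_pOmegaMinus h
  · exact outNil_exc h
  · exact outNil_twisted h
  · exact outNil_suz h
  · exact outNil_iso2F4 h
  · exact absurd h2 (by norm_num)

universe u

/-- **The field `out` of `KRows`.** -/
theorem out (L : Type u) [Group L] [Finite L] (h : IsLieTypeChar 2 L ∨ KFacts.OutZS L) : OutNil L :=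
  h.elim outNil outNil_outZS

end Cfsg.Agent.Omega.Lie.OutT
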